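import Mathlib

open CategoryTheory AlgebraicGeometry Limits

namespace EtNbhdLib

universe u

/-- S-morphisms into an unramified S-scheme agreeing at a point with residue maps agree nearby. -/
theorem exists_agree_nhd {X Y S : Scheme.{u}} (p : Y ⟶ S) [FormallyUnramified p]
    [LocallyOfFiniteType p] (f g : X ⟶ Y) (hfg : f ≫ p = g ≫ p) (x : X) (h1 : f x = g x)
    (h2 : f.residueFieldMap x = (Y.residueFieldCongr h1).hom ≫ g.residueFieldMap x) :
    ∃ U : X.Opens, x ∈ U ∧ U.ι ≫ f = U.ι ≫ g := by
  let l : X ⟶ pullback p p := pullback.lift f g hfg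
  refine ⟨l ⁻¹ᵁ (pullback.diagonal p).opensRange, ?_, ?_⟩
  · let pt : Spec (X.residueField x) ⟶ Y := X.fromSpecResidueField x ≫ f
    have hpt : X.fromSpecResidueField x ≫ g = pt := by
      show _ = X.fromSpecResidueField x ≫ f
      rw [← Scheme.Hom.SpecMap_residueFieldMap_fromSpecResidueField f x, h2, Spec.map_comp,
        Category.assoc, Scheme.residueFieldCongr_fromSpecResidueField h1,
        Scheme.Hom.SpecMap_residueFieldMap_fromSpecResidueField]
    have e : X.fromSpecResidueField x ≫ l = pt ≫ pullback.diagonal p := by
      apply pullback.hom_ext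
      · rw [Category.assoc, Category.assoc, pullback.diagonal_fst, Category.comp_id]
        exact congr(X.fromSpecResidueField x ≫ $(pullback.lift_fst f g hfg))
      · rw [Category.assoc, Category.assoc, pullback.diagonal_snd, Category.comp_id]
        exact congr(X.fromSpecResidueField x ≫ $(pullback.lift_snd f g hfg)).trans hpt
    obtain ⟨z⟩ := (inferInstance : Nonempty (Spec (X.residueField x)))
    refine ⟨pt z, ?_⟩
    have := congr($e z)
    simp only [Scheme.Hom.comp_apply, Scheme.fromSpecResidueField_apply] at this
    exact this.symm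
  · set U := l ⁻¹ᵁ (pullback.diagonal p).opensRange
    have hle : Set.range (U.ι ≫ l) ⊆ Set.range (pullback.diagonal p) := by
      rintro _ ⟨v, rfl⟩
      exact v.2
    have hlift := IsOpenImmersion.lift_fac (pullback.diagonal p) (U.ι ≫ l) hle
    have h1 := congr($hlift ≫ pullback.fst p p)
    have h2 := congr($hlift ≫ pullback.snd p p)
    simp only [Category.assoc, pullback.diagonal_fst, pullback.diagonal_snd, Category.comp_id, l,
      pullback.lift_fst, pullback.lift_snd] at h1 h2
    exact h1.symm.trans h2

end EtNbhdLib
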